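import Groth.Agent.Lib.CMReg.GenKoszul
import Groth.Agent.Lib.Ample.Criterion

/-!
# Affineness from vanishing for negative powers of an ample module
-/

set_option autoImplicit false
set_option backward.isDefEq.respectTransparency false
universe u

open CategoryTheory CategoryTheory.Limits AlgebraicGeometry TopologicalSpace Opposite
open GrothLib.InvExt (mres)
open GrothLib.Ample (Cocycle res app_smul app_mres)
open GrothLib.CMReg

noncomputable section

namespace GrothLib.AffVanish9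

variable {X : Scheme.{u}} (c : Cocycle X)

/-- A function in the image of multiplication by `a` is invertible only on the locus of `a`. -/
theorem basicOpen_le_locus (a : c.sect 1 ⊤) {N : X.Modules} (φ : (tw c).obj N ⟶ Coh.structureModule X)
    (s : Γ(N, ⊤)) :
    X.basicOpen (show Γ(X, ⊤) from φ.app ⊤ ((raise c a N).app ⊤ s)) ≤ c.locus a := by
  intro x hx
  obtain ⟨i, hi⟩ := c.exists_mem x
  let W := c.D i
  let w : Γ(c.modTwist N 1, ⊤) := (raise c a N).app ⊤ s
  let r : Γ(X, W) := res (le_inf le_top le_rfl : W ≤ ⊤ ⊓ c.D i) (a.1 i)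
  let b : c.msect N 1 W := c.mbase 1 i le_rfl (mres N le_top s)
  have e : (show c.msect N 1 W from mres (c.modTwist N 1) (le_top : W ≤ ⊤) w) = r • b := by
    refine c.msect_ext_of_le (i := i) le_rfl ?_
    show mres N (inf_le_inf_right _ le_top : W ⊓ c.D i ≤ ⊤ ⊓ c.D i) (res _ (a.1 i) • mres N inf_le_left s) =
      res inf_le_left r • b.1 i
    simp only [b, r, Cocycle.mbase_self, Ample.mres_smul', Ample.res_res, InvExt.mres_mres]
  let g : Γ(X, ⊤) := φ.app ⊤ w
  let g₁ : Γ(X, W) := φ.app W b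
  have key : res (le_top : W ≤ ⊤) g = r * g₁ := by
    refine Eq.trans ?_ (app_smul φ r (show Γ(c.modTwist N 1, W) from b))
    refine Eq.trans ?_ (congrArg (φ.app W) e)
    exact (app_mres φ (le_top : W ≤ ⊤) w).symm
  have hx' : x ∈ X.basicOpen (res (le_top : W ≤ ⊤) g) := by
    rw [show X.basicOpen (res (le_top : W ≤ ⊤) g) = _ from Scheme.basicOpen_res _ _ _]
    exact ⟨hi, hx⟩
  rw [key, Scheme.basicOpen_mul] at hx'
  have h1 : x ∈ X.basicOpen r := hx'.1
  rw [show X.basicOpen r = _ from Scheme.basicOpen_res _ _ _] at h1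
  exact (c.mem_locus_iff a hi).mpr h1.2

theorem locus_zero : c.locus (0 : c.sect 1 ⊤) = ⊥ :=
  le_bot_iff.mp (iSup_le fun i => (X.basicOpen_zero (⊤ ⊓ c.D i)).le)

/-- Serre's criterion with negative powers of an ample module. -/
theorem isAffine_of_vanishing {L L' : X.Modules} (hA : CohB1.IsAmple L)
    (hinv : Nonempty (CohB1.tensorMod L L' ≅ Coh.structureModule X)) (n₀ : ℕ)
    (h : ∀ n : ℕ, n₀ ≤ n → ∀ p : ℕ, 0 < p → Subsingleton (Coh.HH X (CohB1.tensorPow L' n) p)) : IsAffine X := by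
  classical
  obtain ⟨c, ⟨φ⟩⟩ := Ample.exists_cocycle hA.1
  obtain ⟨hcpt, hamp⟩ := (c.isAmple_iff φ).mp hA
  haveI := hcpt
  choose n b hxb hb using hamp
  obtain ⟨t, ht⟩ := isCompact_univ.elim_finite_subcover (fun x : X => (c.locus (b x) : Set X))
    (fun x => (c.locus (b x)).isOpen) fun x _ => Set.mem_iUnion.mpr ⟨x, hxb x⟩
  let N : ℕ := (∏ x ∈ t, (n x + 1)) * (n₀ + 1)
  have hP : 0 < ∏ x ∈ t, (n x + 1) := Finset.prod_pos fun x _ => Nat.succ_pos _
  have hN : 0 < N := Nat.mul_pos hP n₀.succ_pos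
  have hN₀ : n₀ ≤ N := n₀.le_succ.trans (Nat.le_mul_of_pos_left _ hP)
  let c' := c.pow N
  obtain ⟨φ'⟩ := c.nonempty_tensorPow_iso_pow φ N
  have hdvd : ∀ x : t, (n x.1 + 1) * (N / (n x.1 + 1)) = N * 1 := fun x => by
    rw [mul_one, Nat.mul_div_cancel']
    exact Dvd.dvd.mul_right (Finset.dvd_prod_of_mem _ x.2) _
  let a₀ : t → c'.sect 1 ⊤ := fun x => c.toPow N (c.sectCast (hdvd x) (c.sectPow (b x.1) (N / (n x.1 + 1))))
  have hloc : ∀ x : t, c'.locus (a₀ x) = c.locus (b x.1) := fun x => by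
    rw [Cocycle.locus_toPow, Cocycle.locus_sectCast, Cocycle.locus_sectPow]
    refine Nat.pos_of_ne_zero fun h0 => ?_
    have := hdvd x
    rw [h0, mul_zero, mul_one] at this
    exact hN.ne' this.symm
  let m := t.toList.length
  let a : ℕ → c'.sect 1 ⊤ := fun l => if hl : l < m then a₀ ⟨t.toList.get ⟨l, hl⟩, Finset.mem_toList.mp (List.get_mem _ _)⟩ else 0
  have hcov : Covers c' a (m + 1) := fun x => by
    obtain ⟨y, hy, hxy⟩ := Set.mem_iUnion₂.mp (ht (Set.mem_univ x))
    obtain ⟨⟨l, hl⟩, hly⟩ := List.mem_iff_get.mp (Finset.mem_toList.mpr hy)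
    refine ⟨l, hl.trans m.lt_succ_self, ?_⟩
    dsimp only [a]; rw [dif_pos hl]
    rw [hloc]
    show x ∈ c.locus (b (t.toList.get ⟨l, hl⟩))
    rw [hly]
    exact hxy
  have haff : ∀ l, IsAffineOpen (c'.locus (a l)) := fun l => by
    by_cases hl : l < m
    · dsimp only [a]; rw [dif_pos hl]
      rw [hloc]
      exact hb _
    · dsimp only [a]; rw [dif_neg hl]
      rw [locus_zero]
      exact isAffineOpen_bot X
  -- the class group
  obtain ⟨hL', hcls⟩ := NefGrowth.cls_inverse hA.1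
    (show ClSub.IsInverseOf L' L from ⟨GrTilde.tensorModComm _ _ ≪≫ hinv.some⟩)
  let hLN := Ample.isInvertible_tensorPow hA.1 N
  let hM := Ample.isInvertible_tensorPow hL' (N * (m + 1))
  have hpow : ∀ s, s ≤ m + 1 →
      Nonempty ((twPow c' s).obj (CohB1.tensorPow L' (N * (m + 1))) ≅ CohB1.tensorPow L' (N * (m + 1 - s))) := by
    intro s hs
    obtain ⟨g⟩ := nonempty_twPow_tensor c' φ' s (CohB1.tensorPow L' (N * (m + 1)))
    refine ((Cube.clsMod_eq_iff (Ample.isInvertible_tensorMod hM (Ample.isInvertible_tensorPow hLN s))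
      (Ample.isInvertible_tensorPow hL' _)).1 ?_).map (g ≪≫ ·)
    rw [Cube.clsMod_tensorMod hM (Ample.isInvertible_tensorPow hLN s), Cube.clsMod_tensorPow hL',
      Cube.clsMod_tensorPow hLN, Cube.clsMod_tensorPow hA.1, Cube.clsMod_tensorPow hL',
      eq_inv_of_mul_eq_one_left hcls, inv_pow, inv_pow, inv_mul_eq_iff_eq_mul, ← pow_mul, eq_mul_inv_iff_mul_eq,
      ← pow_add]
    congr 1
    rw [← Nat.mul_add]
    congr 1
    omega
  have hv : ∀ s, s < m → Subsingleton (Coh.HH X ((twPow c' s).obj (CohB1.tensorPow L' (N * (m + 1)))) (1 + (m - 1 - s))) := by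
    intro s hs
    obtain ⟨g⟩ := hpow s (by omega)
    refine subsingleton_of_iso g.symm (h _ (hN₀.trans (Nat.le_mul_of_pos_right _ (by omega))) _ (by omega))
  obtain ⟨g₀⟩ := hpow (m + 1) le_rfl
  have hz0 : CohB1.tensorPow L' (N * (m + 1 - (m + 1))) = Coh.structureModule X := by
    rw [Nat.sub_self, mul_zero]; rfl
  let β := g₀ ≪≫ eqToIso hz0
  let one : Γ(Coh.structureModule X, ⊤) := (1 : Γ(X, ⊤))
  obtain ⟨s, hs⟩ := exists_sum_twPow hcov _ hv (β.inv.app ⊤ one)
  let α := twCommIso c' m (CohB1.tensorPow L' (N * (m + 1)))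
  let f : Fin (m + 1) → Γ(X, ⊤) := fun l =>
    (α.hom ≫ β.hom).app ⊤ ((raise c' (a l) ((twPow c' m).obj (CohB1.tensorPow L' (N * (m + 1))))).app ⊤ (s l))
  refine isAffine_of_isAffineOpen_basicOpen (Set.range f) ?_ ?_
  · rw [Ideal.eq_top_iff_one]
    have e1 : (1 : Γ(X, ⊤)) = ∑ l, f l := by
      have hd := congrArg (β.hom.app ⊤) hs
      rw [← ConcreteCategory.comp_apply, ← Scheme.Modules.Hom.comp_app, β.inv_hom_id, map_sum] at hd
      refine Eq.trans hd (Finset.sum_congr rfl fun l _ => ?_)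
      rw [← raise_twCommIso]
      rfl
    rw [e1]
    exact Ideal.sum_mem _ fun l _ => Ideal.subset_span ⟨l, rfl⟩
  · rintro _ ⟨l, rfl⟩
    have hle : X.basicOpen (f l) ≤ c'.locus (a l) := basicOpen_le_locus c' (a l) (α.hom ≫ β.hom) (s l)
    have := (haff l).basicOpen ((X.presheaf.map (homOfLE (le_top : c'.locus (a l) ≤ ⊤)).op).hom (f l))
    rwa [Scheme.basicOpen_res, inf_eq_right.mpr hle] at this

end GrothLib.AffVanish9
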